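import Groth.Agent.HomLocFreeLib.ExtSh
import Groth.Agent.SurfExtLib.Bidual
import Groth.Agent.RightDerCompLib.Basic
import Groth.Agent.AlgzLib.Lift
import Groth.Agent.ProjFormLib.Proj
import Groth.Agent.ProjFormLib.Inj
import Groth.Agent.KFlatLib.PerfectPull

/-!
# Sheaves of homomorphisms and twists by finite locally free modules
-/

set_option autoImplicit false
set_option linter.style.haveILetI false
set_option linter.unusedSectionVars false
set_option maxHeartbeats 1000000
set_option backward.isDefEq.respectTransparency false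
set_option backward.isDefEq.respectTransparency.types false

noncomputable section

universe u

open CategoryTheory CategoryTheory.Limits AlgebraicGeometry
open CohCmpLib (homMod)
open PnDualLib (homFun)

namespace Groth.Agent.HomTwistLib

variable {X : Scheme.{u}}

/-- Tensoring on the right. -/
abbrev tR (E : X.Modules) : X.Modules ⥤ X.Modules := (DCoh.tensorBi (X := X)).flip.obj E

/-- Hom out of isomorphic modules. -/
def homFunCongr {A B : X.Modules} (e : A ≅ B) : homFun B ≅ homFun A :=
  ((HomCohLib.homAdj B).ofNatIsoLeft ((DCoh.tensorBi (X := X)).mapIso e).symm).rightAdjointUniq (HomCohLib.homAdj A)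

/-- Tensoring with a finite locally free module is a Hom functor. -/
def tensHomIso {E : X.Modules} (hE : FlatMod.IsFinLocFree E) :
    tR E ≅ homFun (homMod E (Coh.structureModule X)) :=
  haveI := SurfExtLib.isIso_ev (Coh.structureModule X) (AlgzLib.isInvertible_structureModule X) hE
  (DCoh.tensorBi (X := X)).flip.mapIso (asIso (SurfExtLib.ev (Coh.structureModule X) E)) ≪≫
    HomLocFreeLib.dualTensIso (CohCmpLib.isFinLocFree_homMod hE (S1063.isFinLocFree_structureModule X))

/-- Hom commutes with twists by finite locally free modules. -/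
def homTwistIso (M : X.Modules) {E : X.Modules} (hE : FlatMod.IsFinLocFree E) :
    tR E ⋙ homFun M ≅ homFun M ⋙ tR E :=
  let D := homMod E (Coh.structureModule X)
  Functor.isoWhiskerRight (tensHomIso hE) (homFun M) ≪≫ HomLocFreeLib.homTensIso D M ≪≫
    homFunCongr (KFlatLib.tensSwap D M) ≪≫ (HomLocFreeLib.homTensIso M D).symm ≪≫
    Functor.isoWhiskerLeft (homFun M) (tensHomIso hE).symm

instance additive_tR_left (E : X.Modules) : ((DCoh.tensorBi (X := X)).obj E).Additive := by
  haveI : ((DCoh.tensorBi (X := X)).obj E).IsLeftAdjoint := (HomCohLib.homAdj E).isLeftAdjoint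
  haveI : PreservesBinaryBiproducts ((DCoh.tensorBi (X := X)).obj E) :=
    preservesBinaryBiproducts_of_preservesBinaryCoproducts _
  exact Functor.additive_of_preservesBinaryBiproducts _

instance additive_tR (E : X.Modules) : (tR E).Additive := Functor.additive_of_iso (ExtShLib.flipIso E).symm

theorem preservesHomology_tR {E : X.Modules} (hE : FlatMod.IsFinLocFree E) : (tR E).PreservesHomology :=
  ((tR E).exact_tfae.out 0 2 rfl rfl).mp fun Sc h =>
    ShortComplex.shortExact_of_iso (Sc.mapNatIso (ExtShLib.flipIso E).symm) (ProjFormLib.shortExact_tens hE h)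

theorem preservesInjective_tR {E : X.Modules} (hE : FlatMod.IsFinLocFree E) : (tR E).PreservesInjectiveObjects :=
  ⟨fun {I} _ => Injective.of_iso ((ExtShLib.flipIso E).symm.app I) (ProjFormLib.injective_tens hE I)⟩

/-- The projection formula. -/
def projTR {Y : Scheme.{u}} (f : X ⟶ Y) {N : Y.Modules} (hN : FlatMod.IsFinLocFree N) :
    Scheme.Modules.pushforward f ⋙ tR N ≅ tR ((Scheme.Modules.pullback f).obj N) ⋙ Scheme.Modules.pushforward f :=
  Functor.isoWhiskerLeft _ (ExtShLib.flipIso N) ≪≫ ProjFormLib.projIso' f N hN ≪≫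
    Functor.isoWhiskerRight (ExtShLib.flipIso ((Scheme.Modules.pullback f).obj N)).symm _

theorem nonempty_relExt_twist {Y : Scheme.{u}} (f : X ⟶ Y) (F G L : X.Modules) (N : Y.Modules)
    (hL : FlatMod.IsFinLocFree L) (hN : FlatMod.IsFinLocFree N) (p : ℕ) [HasInjectiveResolutions X.Modules]
    (SF SFL : X.Modules ⥤ X.Modules) (eF : SF ≅ homFun F) (eFL : SFL ≅ homFun (CohB1.tensorMod F L))
    [(SF ⋙ Scheme.Modules.pushforward f).Additive] [(SFL ⋙ Scheme.Modules.pushforward f).Additive]
    (DL : X.Modules) (eL : DL ≅ homMod L (Coh.structureModule X)) :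
    Nonempty (((SFL ⋙ Scheme.Modules.pushforward f).rightDerived p).obj
        ((tR ((Scheme.Modules.pullback f).obj N)).obj G) ≅
      (tR N).obj (((SF ⋙ Scheme.Modules.pushforward f).rightDerived p).obj ((tR DL).obj G))) := by
  let P := Scheme.Modules.pushforward f
  let fN := (Scheme.Modules.pullback f).obj N
  have hfN : FlatMod.IsFinLocFree fN := KFlatLib.isFinLocFree_pull f hN
  have hDL : FlatMod.IsFinLocFree DL :=
    PerfLib.isFinLocFree_of_iso eL.symm (CohCmpLib.isFinLocFree_homMod hL (S1063.isFinLocFree_structureModule X))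
  haveI := preservesHomology_tR hfN
  haveI := preservesInjective_tR hfN
  haveI := preservesHomology_tR hDL
  haveI := preservesInjective_tR hDL
  haveI := preservesHomology_tR hN
  let T1 := tR fN
  let T2 := tR DL
  let ν : T1 ⋙ (SFL ⋙ P) ≅ T2 ⋙ ((SF ⋙ P) ⋙ tR N) :=
    Functor.isoWhiskerLeft T1 (Functor.isoWhiskerRight eFL P) ≪≫
    (Functor.associator _ _ _).symm ≪≫
    Functor.isoWhiskerRight (homTwistIso (CohB1.tensorMod F L) hfN) P ≪≫
    Functor.associator _ _ _ ≪≫
    Functor.isoWhiskerLeft _ (projTR f hN).symm ≪≫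
    Functor.isoWhiskerRight (homFunCongr (KFlatLib.tensSwap F L) ≪≫ (HomLocFreeLib.homTensIso L F).symm ≪≫
      Functor.isoWhiskerRight ((HomLocFreeLib.dualTensIso hL).symm ≪≫
        (DCoh.tensorBi (X := X)).flip.mapIso eL.symm) (homFun F) ≪≫
      Functor.isoWhiskerLeft T2 eF.symm) (P ⋙ tR N) ≪≫
    Functor.associator _ _ _
  exact ⟨((RightDerCompLib.rightDerivedExactComp T1 (SFL ⋙ P) p).app G).symm ≪≫
    (RightDerCompLib.rightDerivedCongr ν p).app G ≪≫
    (RightDerCompLib.rightDerivedExactComp T2 ((SF ⋙ P) ⋙ tR N) p).app G ≪≫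
    (RightDerCompLib.rightDerivedCompExact (SF ⋙ P) (tR N) p).app (T2.obj G)⟩

end Groth.Agent.HomTwistLib
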